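import Groth.Agent.S10966
import Groth.Agent.LinSysLib.QProj
import Groth.Agent.ModifLib.Norm
import Groth.Agent.LichtLib.ProjOver
import Groth.Agent.DeltaBaseLib.Main
import Groth.Agent.CycP1Lib.Graph
import Groth.Agent.AmpleLib.HProjBasic
import Groth.Agent.RelProjLib.ProjAffine
import Groth.Agent.RelProjLib.HProj
import Groth.Agent.CurvLib.RRBasic

/-! An affine variety is open in an integral projective variety, normal if it is normal. -/

set_option autoImplicit false
set_option linter.style.haveILetI false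
set_option backward.isDefEq.respectTransparency false
universe u

open AlgebraicGeometry CategoryTheory CategoryTheory.Limits TopologicalSpace

namespace Groth.Agent.AffCompLib

theorem exists_affine_compactification (k : Type u) [Field k] (X : Scheme.{u})
    (f : X ⟶ Spec (CommRingCat.of k)) [IsAffine X] [IsIntegral X] [LocallyOfFiniteType f] :
    ∃ (Y : Scheme.{u}) (g : Y ⟶ Spec (CommRingCat.of k)) (n : ℕ) (c : Y ⟶ CohB1.ProjSpace n k)
      (j : X ⟶ Y), IsIntegral Y ∧ IsClosedImmersion c ∧
      c ≫ CohB1.ProjSpace.toSpec n k = g ∧ IsOpenImmersion j ∧ j ≫ g = f ∧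
      (Pi1.IsNormalScheme X → Pi1.IsNormalScheme Y) := by
  obtain ⟨n, i, hi, hif, -⟩ : RelAmple.IsRelVeryAmplePn f (Coh.structureModule X) :=
    Groth.Agent.S10966.result k f _ CurvLib.isInvertible_structureModule
  haveI : QuasiCompact f := quasiCompact_of_compactSpace f
  haveI : QuasiCompact i := QuasiCompact.of_comp i (CohB1.ProjSpaceOver.toBase n _)
  let Y₀ := i.image
  haveI : IsIntegral Y₀ := CycP1Lib.isIntegral_image i
  let g₀ : Y₀ ⟶ Spec (CommRingCat.of k) := i.imageι ≫ CohB1.ProjSpaceOver.toBase n _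
  have hg₀ : RelProj.IsHProjective g₀ := ⟨n, i.imageι, inferInstance, rfl⟩
  haveI : IsProper g₀ := (AmpleLib.isHProjective_iff.1 hg₀).2
  have hj₀ : i.toImage ≫ g₀ = f := by
    rw [← hif]; exact Scheme.Hom.toImage_imageι_assoc i _
  -- the normalization
  haveI : IsLocallyNoetherian Y₀ := LocallyOfFiniteType.isLocallyNoetherian g₀
  haveI : CompactSpace Y₀ := QuasiCompact.compactSpace_of_compactSpace g₀
  haveI : QuasiCompact (Y₀.fromSpecStalk (genericPoint Y₀)) := inferInstance
  haveI : QuasiSeparated (Y₀.fromSpecStalk (genericPoint Y₀)) := inferInstance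
  have hNk : ∀ U : (Spec (CommRingCat.of k)).affineOpens, CAlg.IsNagata Γ(Spec (CommRingCat.of k), U.1) :=
    fun U => Groth.Agent.S9833.result (Spec (CommRingCat.of k)) (fun _ : PUnit.{u+1} => ⊤) iSup_const
      (fun _ => isAffineOpen_top _) (fun _ => by
        letI := ((Scheme.ΓSpecIso (CommRingCat.of k)).inv.hom).toAlgebra
        haveI : Algebra.FiniteType k Γ(Spec (CommRingCat.of k), ⊤) :=
          RingHom.FiniteType.of_surjective _
            (ConcreteCategory.bijective_of_isIso (Scheme.ΓSpecIso (CommRingCat.of k)).inv).2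
        exact Groth.Agent.S0566.result k (DeltaBaseLib.isNagata_of_field k) Γ(Spec (CommRingCat.of k), ⊤)) U.1 U.2
  haveI := ModifLib.isFinite_normalizationι Y₀ (ModifLib.isNagata_affineOpens g₀ hNk)
  let ν := Curv2.normalizationι Y₀
  by_cases hX : Pi1.IsNormalScheme X
  · let V : Y₀.affineOpens := ⟨i.toImage.opensRange, isAffineOpen_opensRange _⟩
    obtain ⟨x⟩ := (inferInstance : Nonempty X)
    haveI : Nonempty V.1 := ⟨⟨i.toImage x, x, rfl⟩⟩
    have hVc : IsIntegrallyClosed Γ(Y₀, V.1) := by
      haveI : Nonempty (⊤ : X.Opens) := ⟨⟨x, trivial⟩⟩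
      haveI : IsIntegrallyClosed Γ(X, ⊤) :=
        LocFFLib.isIntegrallyClosed_sections hX ⊤
      exact IsIntegrallyClosed.of_equiv
        (Y₀.presheaf.mapIso (eqToIso i.toImage.image_top_eq_opensRange).op ≪≫
          i.toImage.appIso ⊤).commRingCatIsoToRingEquiv.symm
    haveI : IsIso (ν ∣_ V.1) := ModifLib.isIso_normalizationι_restrict Y₀ V hVc
    let j : X ⟶ Curv2.normalization Y₀ :=
      i.toImage.isoOpensRange.hom ≫ inv (ν ∣_ V.1) ≫ (ν ⁻¹ᵁ V.1).ι
    have hjν : j ≫ ν = i.toImage := by
      simp only [j, Category.assoc, ← morphismRestrict_ι, IsIso.inv_hom_id_assoc]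
      exact Scheme.Hom.isoOpensRange_hom_ι i.toImage
    have hproj : RelProj.IsProjective (ν ≫ g₀) :=
      LinSysLib.isProjective_comp (LinSysLib.isProjective_of_isFinite ν) (RelProjLib.isProjective_of_isHProjective g₀ hg₀)
    obtain ⟨m, c, hc, hcg⟩ := RelProjLib.isHProjective_of_isProjective hproj
    obtain ⟨e, he⟩ := LichtLib.exists_iso_over m k
    haveI := hc
    refine ⟨_, ν ≫ g₀, m, c ≫ e.inv, j, inferInstance, inferInstance, ?_, inferInstance, ?_,
      fun _ => LocFFLib.normalization_isNormal Y₀⟩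
    · rw [← he, Category.assoc, Iso.inv_hom_id_assoc, hcg]
    · rw [← Category.assoc, hjν, hj₀]
  · obtain ⟨e, he⟩ := LichtLib.exists_iso_over n k
    refine ⟨Y₀, g₀, n, i.imageι ≫ e.inv, i.toImage, inferInstance, inferInstance, ?_, inferInstance, hj₀,
      fun h => absurd h hX⟩
    rw [← he, Category.assoc, Iso.inv_hom_id_assoc]

end Groth.Agent.AffCompLib
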